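import Cfsg.Agent.Lib.HNRep.Data
import Cfsg.Prelude.Def_Spor_HN
import Mathlib.GroupTheory.PresentedGroup

/-!
A representation of the presented Harada-Norton group in dimension 133 over the integers modulo 31
in which the images of `x ^ 2` and `t` are non-trivial (relators checked in the kernel).
-/

set_option autoImplicit false
set_option maxRecDepth 8000

namespace CfsgLib.HNRep

/-- Words in the four generators. -/
inductive W where
  | gen (g : Cfsg.Spor.HN.Gen)
  | mul (u v : W)
  | inv (u : W)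
  | pow (u : W) (n : ℕ)

/-- The free group element of a word. -/
def W.toFree : W → FreeGroup Cfsg.Spor.HN.Gen
  | .gen g => FreeGroup.of g
  | .mul u v => u.toFree * v.toFree
  | .inv u => (u.toFree)⁻¹
  | .pow u n => u.toFree ^ n

/-- The packed matrix of a generator (`b`: of its inverse). -/
def genMat : Cfsg.Spor.HN.Gen → Bool → ℕ
  | .x, false => mx
  | .x, true => mxi
  | .y, false => my
  | .y, true => myi
  | .z, _ => mz
  | .t, false => mt
  | .t, true => mti

/-- Powers of a packed matrix. -/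
def powN (F : ℕ) : ℕ → ℕ
  | 0 => one
  | n + 1 => CfsgLib.HNRep.mul (powN F n) F

/-- The packed matrix of a word (`b`: of its inverse). -/
def ev : Bool → W → ℕ
  | b, .gen g => genMat g b
  | false, .mul u v => CfsgLib.HNRep.mul (ev false u) (ev false v)
  | true, .mul u v => CfsgLib.HNRep.mul (ev true v) (ev true u)
  | b, .inv u => ev (!b) u
  | b, .pow u n => force (ev b u) fun F => powN F n

theorem gen_inv : ∀ g, isOne (mul (genMat g false) (genMat g true)) = true ∧
    isOne (mul (genMat g true) (genMat g false)) = true := by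
  intro g
  cases g <;> exact ⟨by decide +kernel, by decide +kernel⟩

/-- The target group. -/
abbrev GL133 : Type := (Matrix (Fin 133) (Fin 133) (ZMod 31))ˣ

/-- The image of a generator. -/
def genUnit (g : Cfsg.Spor.HN.Gen) : GL133 where
  val := toMat (genMat g false)
  inv := toMat (genMat g true)
  val_inv := by rw [← toMat_mul]; exact toMat_of_isOne (gen_inv g).1
  inv_val := by rw [← toMat_mul]; exact toMat_of_isOne (gen_inv g).2

/-- The action of free group elements. -/
def act : FreeGroup Cfsg.Spor.HN.Gen →* GL133 := FreeGroup.lift genUnit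

theorem toMat_powN (F n : ℕ) : toMat (powN F n) = toMat F ^ n := by
  induction n with
  | zero => rw [powN, pow_zero, toMat_one]
  | succ n ih => rw [powN, toMat_mul, ih, pow_succ]

theorem toMat_ev (w : W) :
    toMat (ev false w) = (act w.toFree : Matrix (Fin 133) (Fin 133) (ZMod 31)) ∧
      toMat (ev true w) = ((act w.toFree)⁻¹ : GL133) := by
  induction w with
  | gen g =>
      simp only [W.toFree, act, FreeGroup.lift_apply_of]
      exact ⟨rfl, rfl⟩
  | mul u v ihu ihv =>
      simp only [W.toFree, map_mul, ev, toMat_mul, mul_inv_rev, Units.val_mul]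
      rw [ihu.1, ihu.2, ihv.1, ihv.2]
      exact ⟨rfl, rfl⟩
  | inv u ih =>
      simp only [W.toFree, map_inv, ev, Bool.not_false, Bool.not_true, inv_inv]
      exact ⟨ih.2, ih.1⟩
  | pow u n ih =>
      simp only [W.toFree, map_pow, ev, force_eq, toMat_powN, ← inv_pow, Units.val_pow_eq_pow_val]
      rw [ih.1, ih.2]
      exact ⟨rfl, rfl⟩

theorem act_eq_one (w : W) (h : isOne (ev false w) = true) : act w.toFree = 1 :=
  Units.ext ((toMat_ev w).1.symm.trans (toMat_of_isOne h))

namespace Word

/-- The generator `x`. -/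
def wx : W := .gen .x
/-- The generator `y`. -/
def wy : W := .gen .y
/-- The generator `z`. -/
def wz : W := .gen .z
/-- The generator `t`. -/
def wt : W := .gen .t
/-- The conjugator of the ninth relator. -/
def wa : W :=
  .mul (.mul (.mul (.mul (.mul (.mul wy wx) wy) wx) (.pow wy 2)) wx) (.inv wy)
/-- The conjugator of the tenth relator. -/
def wb : W := .mul (.mul (.mul (.mul (.pow wy 3) wx) wy) wx) wy

/-- The relators as words. -/
def rels : List W :=
  [.pow wy 6,
   .mul (.mul (.mul (.pow wx 2) wy) (.pow wx 2)) (.inv wy),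
   .pow (.mul (.mul (.mul (.inv wx) (.inv wy)) wx) wy) 3,
   .pow (.mul (.mul (.mul (.inv wx) (.pow wy 2)) wx) (.pow wy 3)) 3,
   .pow (.mul wx wy) 8,
   .pow (.mul (.mul (.mul wx wy) wx) (.pow wy 3)) 4,
   .pow wz 2,
   .pow (.mul wz wx) 2,
   .mul (.mul (.mul (.mul (.inv wz) (.inv wa)) wz) wa) (.inv (.pow wx 2)),
   .mul wz (.pow (.mul (.mul (.mul (.inv wb) wz) wb) wx) 3),
   .pow wt 5,
   .mul (.mul (.mul (.inv wx) wt) wx) (.pow wt 2),
   .mul (.mul (.mul (.inv wt) (.inv wy)) wt) wy,
   .pow (.mul wz wt) 3]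

theorem extra_eq : rels.map W.toFree = Cfsg.Spor.HN.extra := rfl

theorem rels_check : rels.all (fun w => isOne (ev false w)) = true := by decide +kernel

end Word

theorem act_rel : ∀ r ∈ Cfsg.Spor.coxRelators Cfsg.Spor.HN.edges ∪
    {r | r ∈ Cfsg.Spor.HN.extra}, act r = 1 := by
  rintro r (⟨a, ha, -⟩ | hr)
  · simp [Cfsg.Spor.HN.edges, Cfsg.Spor.coxNodes] at ha
  · have hr' : r ∈ Word.rels.map W.toFree := by rw [Word.extra_eq]; exact hr
    obtain ⟨w, hw, rfl⟩ := List.mem_map.mp hr'
    exact act_eq_one w (List.all_eq_true.mp Word.rels_check w hw)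

/-- The representation of the presented group. -/
def rho : Cfsg.Spor.HN →* GL133 := PresentedGroup.toGroup act_rel

theorem rho_mk (w : FreeGroup Cfsg.Spor.HN.Gen) : rho (PresentedGroup.mk _ w) = act w :=
  rfl

theorem rho_x_sq_ne : rho (PresentedGroup.mk _ Cfsg.Spor.HN.x) ^ 2 ≠ 1 := by
  intro h
  rw [rho_mk, ← map_pow] at h
  have h1 := (toMat_ev (.pow Word.wx 2)).1
  have h' : act (W.toFree (.pow Word.wx 2)) = 1 := h
  rw [h', Units.val_one] at h1
  have h2 : ((ent (ev false (.pow Word.wx 2)) 77 77 : ℕ) : ZMod 31) = 1 :=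
    (congrFun (congrFun h1 ⟨77, by omega⟩) ⟨77, by omega⟩).trans (Matrix.one_apply_eq _)
  rw [show ((1 : ZMod 31)) = ((1 : ℕ) : ZMod 31) from Nat.cast_one.symm,
    ZMod.natCast_eq_natCast_iff'] at h2
  have h3 : (ent (ev false (.pow Word.wx 2)) 77 77 % 31 == 1 % 31) = false := by decide +kernel
  rw [h2] at h3
  simp at h3

theorem rho_t_ne : rho (PresentedGroup.mk _ Cfsg.Spor.HN.t) ≠ 1 := by
  intro h
  rw [rho_mk] at h
  have h1 := (toMat_ev Word.wt).1
  have h' : act (W.toFree Word.wt) = 1 := h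
  rw [h', Units.val_one] at h1
  have h2 : ((ent (ev false Word.wt) 21 21 : ℕ) : ZMod 31) = 1 :=
    (congrFun (congrFun h1 ⟨21, by omega⟩) ⟨21, by omega⟩).trans (Matrix.one_apply_eq _)
  rw [show ((1 : ZMod 31)) = ((1 : ℕ) : ZMod 31) from Nat.cast_one.symm,
    ZMod.natCast_eq_natCast_iff'] at h2
  have h3 : (ent (ev false Word.wt) 21 21 % 31 == 1 % 31) = false := by decide +kernel
  rw [h2] at h3
  simp at h3

/-- The presented Harada-Norton group has a representation separating `x ^ 2` and `t` from `1`. -/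
theorem exists_rep : ∃ (K : Type) (_ : Group K) (φ : Cfsg.Spor.HN →* K),
    φ (PresentedGroup.mk _ Cfsg.Spor.HN.x) ^ 2 ≠ 1 ∧
      φ (PresentedGroup.mk _ Cfsg.Spor.HN.t) ≠ 1 :=
  ⟨GL133, inferInstance, rho, rho_x_sq_ne, rho_t_ne⟩

end CfsgLib.HNRep
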