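import Mathlib.Data.Nat.Bitwise
import Mathlib.Data.ZMod.Basic
import Mathlib.Data.Matrix.Mul
import Mathlib.Algebra.BigOperators.Intervals

/-!
133 by 133 matrices over the integers modulo 31 packed into one natural number (slots of 20 bits),
with a product that costs 133 large multiplications (Kronecker substitution and bit folding).
-/

set_option autoImplicit false

namespace CfsgLib.HNRep

open Finset

/-- The block `blk` repeated `m` times with period `w` bits. -/
def rep (w blk : ℕ) : ℕ → ℕ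
  | 0 => 0
  | m + 1 => blk + 2 ^ w * rep w blk m

/-- The sum of the first `n` values. -/
def sumN (f : ℕ → ℕ) : ℕ → ℕ
  | 0 => 0
  | n + 1 => sumN f n + f n

/-- Evaluate a number before continuing. -/
def force {α : Type} (n : ℕ) (k : ℕ → α) : α :=
  match n with
  | 0 => k 0
  | m + 1 => k (m + 1)

theorem force_eq {α : Type} (n : ℕ) (k : ℕ → α) : force n k = k n := by
  cases n <;> rfl

theorem sumN_eq (f : ℕ → ℕ) (n : ℕ) : sumN f n = ∑ j ∈ range n, f j := by
  induction n with
  | zero => simp [sumN]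
  | succ n ih => rw [sumN, sum_range_succ, ih]

theorem rep_eq (w b m : ℕ) : rep w b m = ∑ i ∈ range m, b * 2 ^ (w * i) := by
  induction m with
  | zero => simp [rep]
  | succ m ih =>
      rw [sum_range_succ', rep, ih, mul_sum, mul_zero, pow_zero, mul_one, add_comm]
      congr 1
      refine sum_congr rfl fun i _ => ?_
      rw [Nat.mul_succ, pow_add]
      ring

theorem and_split (X b R w : ℕ) (hb : b < 2 ^ w) :
    X &&& (b + 2 ^ w * R) = (X &&& b) + 2 ^ w * ((X / 2 ^ w) &&& R) := by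
  apply Nat.eq_of_testBit_eq
  intro j
  have hb' : X &&& b < 2 ^ w := lt_of_le_of_lt Nat.and_le_right hb
  rw [add_comm b, add_comm (X &&& b), Nat.testBit_and,
    Nat.testBit_two_pow_mul_add _ hb, Nat.testBit_two_pow_mul_add _ hb']
  by_cases h : j < w
  · simp [h, Nat.testBit_and]
  · simp only [h, if_false, Nat.testBit_and, Nat.testBit_div_two_pow]
    congr 2
    omega

theorem and_rep (w blk : ℕ) (hb : blk < 2 ^ w) (m X : ℕ) :
    X &&& rep w blk m = ∑ i ∈ range m, ((X / 2 ^ (w * i)) &&& blk) * 2 ^ (w * i) := by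
  induction m generalizing X with
  | zero => simp [rep]
  | succ m ih =>
      rw [rep, and_split _ _ _ _ hb, ih, sum_range_succ', mul_sum, mul_zero, pow_zero, mul_one,
        Nat.div_one, add_comm]
      congr 1
      refine sum_congr rfl fun i _ => ?_
      rw [Nat.div_div_eq_div_mul, ← pow_add, show w + w * i = w * (i + 1) by ring,
        show w * (i + 1) = w + w * i by ring, pow_add]
      ring

theorem sum_digits_lt (w : ℕ) (v : ℕ → ℕ) :
    ∀ m, (∀ k, k < m → v k < 2 ^ w) → ∑ k ∈ range m, v k * 2 ^ (w * k) < 2 ^ (w * m) := by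
  intro m
  induction m with
  | zero => simp
  | succ m ih =>
      intro h
      have h1 := ih fun k hk => h k (by omega)
      have h2 : v m + 1 ≤ 2 ^ w := h m (by omega)
      have h3 : (v m + 1) * 2 ^ (w * m) ≤ 2 ^ w * 2 ^ (w * m) := Nat.mul_le_mul_right _ h2
      rw [sum_range_succ, Nat.mul_succ, pow_add]
      rw [add_mul, one_mul] at h3
      rw [mul_comm (2 ^ (w * m))]
      omega

theorem digit_sum (w : ℕ) :
    ∀ (l m : ℕ) (v : ℕ → ℕ), (∀ k, k < m → v k < 2 ^ w) → l < m →
      (∑ k ∈ range m, v k * 2 ^ (w * k)) / 2 ^ (w * l) % 2 ^ w = v l := by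
  intro l
  induction l with
  | zero =>
      intro m v h hl
      obtain ⟨m, rfl⟩ : ∃ m', m = m' + 1 := ⟨m - 1, by omega⟩
      rw [sum_range_succ', mul_zero, pow_zero, mul_one, Nat.div_one]
      have : ∑ k ∈ range m, v (k + 1) * 2 ^ (w * (k + 1))
          = 2 ^ w * ∑ k ∈ range m, v (k + 1) * 2 ^ (w * k) := by
        rw [mul_sum]
        refine sum_congr rfl fun i _ => ?_
        rw [Nat.mul_succ, pow_add]
        ring
      rw [this, Nat.mul_add_mod, Nat.mod_eq_of_lt (h 0 (by omega))]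
  | succ l ih =>
      intro m v h hl
      obtain ⟨m, rfl⟩ : ∃ m', m = m' + 1 := ⟨m - 1, by omega⟩
      rw [sum_range_succ', mul_zero, pow_zero, mul_one]
      have : ∑ k ∈ range m, v (k + 1) * 2 ^ (w * (k + 1))
          = 2 ^ w * ∑ k ∈ range m, v (k + 1) * 2 ^ (w * k) := by
        rw [mul_sum]
        refine sum_congr rfl fun i _ => ?_
        rw [Nat.mul_succ, pow_add]
        ring
      rw [this, Nat.mul_succ, add_comm (w * l) w, pow_add, ← Nat.div_div_eq_div_mul,
        Nat.mul_add_div (Nat.two_pow_pos w), Nat.div_eq_of_lt (h 0 (by omega)), add_zero]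
      exact ih m (fun k => v (k + 1)) (fun k hk => h (k + 1) (by omega)) (by omega)

/-- The slot `(i, k)` of a packed matrix. -/
def slot (F i k : ℕ) : ℕ := F / 2 ^ (2660 * i) / 2 ^ (20 * k) % 2 ^ 20

/-- The entry `(i, k)` of a packed matrix. -/
def ent (F i k : ℕ) : ℕ := F / 2 ^ (2660 * i) / 2 ^ (20 * k) % 64

/-- The packing of a family of slot values. -/
def packT (v : ℕ → ℕ → ℕ) : ℕ :=
  ∑ i ∈ range 133, (∑ k ∈ range 133, v i k * 2 ^ (20 * k)) * 2 ^ (2660 * i)

theorem ent_eq (F i k : ℕ) : ent F i k = slot F i k % 64 := by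
  unfold ent slot
  generalize F / 2 ^ (2660 * i) / 2 ^ (20 * k) = q
  omega

theorem mod_div_mod (a M s t : ℕ) (h : s + t ≤ M) :
    a % 2 ^ M / 2 ^ s % 2 ^ t = a / 2 ^ s % 2 ^ t := by
  apply Nat.eq_of_testBit_eq
  intro j
  simp only [Nat.testBit_mod_two_pow, Nat.testBit_div_two_pow]
  by_cases hj : j < t
  · simp [hj, show j + s < M by omega]
  · simp [hj]

theorem slot_packT (v : ℕ → ℕ → ℕ) (hv : ∀ i k, i < 133 → k < 133 → v i k < 2 ^ 20)
    (i k : ℕ) (hi : i < 133) (hk : k < 133) : slot (packT v) i k = v i k := by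
  have hin : ∀ a, a < 133 → ∑ k ∈ range 133, v a k * 2 ^ (20 * k) < 2 ^ 2660 := fun a ha =>
    sum_digits_lt 20 (v a) 133 fun k hk => hv a k ha hk
  have h1 := digit_sum 2660 i 133 (fun a => ∑ k ∈ range 133, v a k * 2 ^ (20 * k)) hin hi
  unfold slot packT
  rw [← mod_div_mod _ 2660 (20 * k) 20 (by omega), h1]
  exact digit_sum 20 k 133 (v i) (fun a ha => hv i a hi ha) hk

theorem div_comm' (a b c : ℕ) : a / b / c = a / c / b := by
  rw [Nat.div_div_eq_div_mul, Nat.div_div_eq_div_mul, mul_comm]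

/-- All slots filled with `c` one-bits. -/
def full (c : ℕ) : ℕ := rep 2660 (rep 20 (2 ^ c - 1) 133) 133

theorem and_full (c : ℕ) (hc : c ≤ 20) (X : ℕ) :
    X &&& full c = packT fun i k => X / 2 ^ (2660 * i) / 2 ^ (20 * k) % 2 ^ c := by
  have hc' : 2 ^ c - 1 < 2 ^ 20 := by
    have h1 : 2 ^ c ≤ 2 ^ 20 := Nat.pow_le_pow_right (by omega) hc
    have h2 : 0 < 2 ^ c := Nat.two_pow_pos c
    omega
  have hb : rep 20 (2 ^ c - 1) 133 < 2 ^ 2660 := by
    rw [rep_eq]
    exact sum_digits_lt 20 (fun _ => 2 ^ c - 1) 133 fun _ _ => hc'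
  unfold full packT
  rw [and_rep _ _ hb]
  refine sum_congr rfl fun i _ => ?_
  rw [and_rep _ _ hc']
  refine congrArg (fun x => x * 2 ^ (2660 * i)) ?_
  refine sum_congr rfl fun k _ => ?_
  rw [Nat.and_two_pow_sub_one_eq_mod]

/-- Replace every slot value `v` by `v % 32 + v / 32`, which is congruent modulo 31. -/
def fold (S : ℕ) : ℕ := (S &&& full 5) + ((S >>> 5) &&& full 15)

theorem slot_fold (S i k : ℕ) (hi : i < 133) (hk : k < 133) :
    slot (fold S) i k = slot S i k % 32 + slot S i k / 32 := by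
  have h : fold S = packT fun i k =>
      S / 2 ^ (2660 * i) / 2 ^ (20 * k) % 2 ^ 5 +
        S / 2 ^ 5 / 2 ^ (2660 * i) / 2 ^ (20 * k) % 2 ^ 15 := by
    unfold fold
    rw [and_full 5 (by omega), and_full 15 (by omega), Nat.shiftRight_eq_div_pow]
    unfold packT
    rw [← sum_add_distrib]
    refine sum_congr rfl fun i _ => ?_
    rw [← add_mul, ← sum_add_distrib]
    refine congrArg (fun x => x * 2 ^ (2660 * i)) ?_
    exact sum_congr rfl fun k _ => (add_mul _ _ _).symm
  rw [h, slot_packT _ (fun a b _ _ => by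
    have h1 : ∀ q r : ℕ, q % 2 ^ 5 + r % 2 ^ 15 < 2 ^ 20 := fun q r => by omega
    exact h1 _ _) i k hi hk]
  rw [div_comm' S (2 ^ 5), div_comm' (S / 2 ^ (2660 * i)) (2 ^ 5)]
  unfold slot
  generalize S / 2 ^ (2660 * i) / 2 ^ (20 * k) = q
  omega

/-- Column `j` spread to the row period. -/
def col (F j : ℕ) : ℕ := (F >>> (20 * j)) &&& rep 2660 63 133

/-- Row `j`. -/
def row (F j : ℕ) : ℕ := (F >>> (2660 * j)) &&& rep 20 63 133

theorem col_eq (F j : ℕ) : col F j = ∑ i ∈ range 133, ent F i j * 2 ^ (2660 * i) := by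
  unfold col
  rw [and_rep _ _ (lt_of_lt_of_le (by decide : (63 : ℕ) < 2 ^ 6)
    (Nat.pow_le_pow_right (by omega) (by omega))), Nat.shiftRight_eq_div_pow]
  refine sum_congr rfl fun i _ => ?_
  rw [div_comm', show (63 : ℕ) = 2 ^ 6 - 1 from rfl, Nat.and_two_pow_sub_one_eq_mod]
  rfl

theorem row_eq (F j : ℕ) : row F j = ∑ k ∈ range 133, ent F j k * 2 ^ (20 * k) := by
  unfold row
  rw [and_rep _ _ (by decide), Nat.shiftRight_eq_div_pow]
  refine sum_congr rfl fun k _ => ?_
  rw [show (63 : ℕ) = 2 ^ 6 - 1 from rfl, Nat.and_two_pow_sub_one_eq_mod]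
  rfl

/-- The product of packed matrices. -/
def mul (F G : ℕ) : ℕ :=
  force F fun F => force G fun G =>
    force (fold (fold (fold (sumN (fun j => col F j * row G j) 133)))) fun R => R

theorem raw_eq (F G : ℕ) :
    sumN (fun j => col F j * row G j) 133 =
      packT fun i k => ∑ j ∈ range 133, ent F i j * ent G j k := by
  rw [sumN_eq]
  unfold packT
  simp only [col_eq, row_eq, sum_mul_sum]
  rw [sum_comm]
  refine sum_congr rfl fun i _ => ?_
  rw [sum_comm, sum_mul]
  refine sum_congr rfl fun k _ => ?_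
  rw [sum_mul, sum_mul]
  refine sum_congr rfl fun j _ => ?_
  ring

/-- The matrix of a packed number. -/
def toMat (F : ℕ) : Matrix (Fin 133) (Fin 133) (ZMod 31) := fun i k => (ent F i.1 k.1 : ℕ)

theorem cast_fold (q : ℕ) : ((q % 32 + q / 32 : ℕ) : ZMod 31) = (q : ZMod 31) := by
  rw [ZMod.natCast_eq_natCast_iff']
  omega

theorem toMat_mul (F G : ℕ) : toMat (mul F G) = toMat F * toMat G := by
  ext i k
  rw [Matrix.mul_apply]
  show ((ent (mul F G) i.1 k.1 : ℕ) : ZMod 31) = ∑ j, toMat F i j * toMat G j k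
  simp only [mul, force_eq]
  rw [ent_eq]
  have hs : ∀ a b, a < 133 → b < 133 →
      ∑ j ∈ range 133, ent F a j * ent G j b < 2 ^ 20 := by
    intro a b _ _
    have h1 : ∑ j ∈ range 133, ent F a j * ent G j b ≤ ∑ _j ∈ range 133, 63 * 63 :=
      sum_le_sum fun j _ => Nat.mul_le_mul (Nat.le_of_lt_succ (Nat.mod_lt _ (by omega)))
        (Nat.le_of_lt_succ (Nat.mod_lt _ (by omega)))
    rw [sum_const, card_range, smul_eq_mul] at h1
    omega
  rw [slot_fold _ _ _ i.2 k.2, slot_fold _ _ _ i.2 k.2, slot_fold _ _ _ i.2 k.2, raw_eq,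
    slot_packT _ hs _ _ i.2 k.2]
  have hq : ∑ j ∈ range 133, ent F i.1 j * ent G j k.1 < 2 ^ 20 := hs _ _ i.2 k.2
  have hcast : ((∑ j ∈ range 133, ent F i.1 j * ent G j k.1 : ℕ) : ZMod 31)
      = ∑ j : Fin 133, toMat F i j * toMat G j k := by
    rw [← Fin.sum_univ_eq_sum_range (fun j => ent F i.1 j * ent G j k.1), Nat.cast_sum]
    exact sum_congr rfl fun j _ => Nat.cast_mul _ _
  rw [← hcast]
  generalize ∑ j ∈ range 133, ent F i.1 j * ent G j k.1 = q at hq
  rw [Nat.mod_eq_of_lt (by omega), cast_fold, cast_fold, cast_fold]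

/-- The packed identity matrix. -/
def one : ℕ := rep 2680 1 133

/-- Test that a packed matrix is the identity modulo 31. -/
def isOne (F : ℕ) : Bool :=
  force F fun F => force ((F - one) / 31) fun U =>
    (one + 31 * U == F) && (U &&& full 1 == U)

theorem one_eq : one = packT fun i k => if i = k then 1 else 0 := by
  unfold one packT
  rw [rep_eq]
  refine sum_congr rfl fun i hi => ?_
  rw [sum_eq_single i (fun b _ hb => by simp [Ne.symm hb]) (fun h => absurd hi h)]
  beta_reduce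
  rw [if_pos rfl, one_mul, one_mul, ← pow_add]
  refine congrArg (fun x => 2 ^ x) ?_
  omega

theorem toMat_one : toMat one = 1 := by
  ext i k
  show ((ent one i.1 k.1 : ℕ) : ZMod 31) = _
  rw [ent_eq, one_eq, slot_packT _ (fun a b _ _ => by split_ifs <;> simp) _ _ i.2 k.2,
    Matrix.one_apply]
  by_cases h : i = k
  · subst h; simp
  · rw [if_neg (fun e => h (Fin.ext e)), if_neg h]; simp

theorem toMat_of_isOne {F : ℕ} (h : isOne F = true) : toMat F = 1 := by
  simp only [isOne, force_eq, Bool.and_eq_true, beq_iff_eq] at h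
  obtain ⟨h1, h2⟩ := h
  rw [and_full 1 (by omega)] at h2
  generalize hU : (F - one) / 31 = U at h1 h2
  have hF : F = packT fun i k =>
      (if i = k then 1 else 0) + 31 * (U / 2 ^ (2660 * i) / 2 ^ (20 * k) % 2 ^ 1) := by
    rw [← h1]
    conv_lhs => rw [one_eq, ← h2]
    unfold packT
    rw [mul_sum, ← sum_add_distrib]
    refine sum_congr rfl fun i _ => ?_
    rw [← mul_assoc, mul_sum, ← add_mul, ← sum_add_distrib]
    refine congrArg (fun x => x * 2 ^ (2660 * i)) ?_
    refine sum_congr rfl fun k _ => ?_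
    ring
  ext i k
  show ((ent F i.1 k.1 : ℕ) : ZMod 31) = _
  rw [ent_eq, hF, slot_packT _ (fun a b _ _ => by split_ifs <;> omega) _ _ i.2 k.2,
    Matrix.one_apply]
  have hc : ∀ d u : ℕ, d ≤ 1 → (((d + 31 * (u % 2 ^ 1)) % 64 : ℕ) : ZMod 31) = (d : ZMod 31) := by
    intro d u hd
    rw [ZMod.natCast_eq_natCast_iff', pow_one]
    rcases Nat.mod_two_eq_zero_or_one u with h | h <;> rw [h] <;> omega
  rw [hc _ _ (by split_ifs <;> omega)]
  by_cases h : i = k
  · subst h; simp
  · rw [if_neg (fun e => h (Fin.ext e)), if_neg h]; simp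

/-- Pack a list of rows. -/
def ofRows (L : List ℕ) : ℕ := L.foldr (fun r acc => r + 2 ^ 2660 * acc) 0

end CfsgLib.HNRep
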